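import Mathlib

/-!
# CaseL, weird `Y`, `q = 2`: no transvection of `B` with centre `z_j` moves `V_j` (bb OMEGA #24136 (i), helper922)

Abstract module form. `X` acts on the finite group `U` of exponent 2; `W4 = V_j`, `z = z_j`, `XJ = X_j`,
`Qj = C_B(V_j)`, `OY = O₂(Y)`.
-/

set_option autoImplicit false
set_option linter.unusedSectionVars false

namespace Cfsg.Agent.Omega.NO3S.WYE

open Subgroup

universe u v

section basic

variable {X : Type u} [Group X] {U : Type v} [AddCommGroup U] [DistribMulAction X U]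

theorem sc_add (two : ∀ u : U, u + u = 0) (a b : ZMod 2) (v : U) : (a + b).val • v = a.val • v + b.val • v := by
  have h1 : (2 : ℕ) • v = 0 := by rw [two_nsmul]; exact two v
  fin_cases a <;> fin_cases b
  · change (0 : ℕ) • v = (0 : ℕ) • v + (0 : ℕ) • v
    simp
  · change (1 : ℕ) • v = (0 : ℕ) • v + (1 : ℕ) • v
    simp
  · change (1 : ℕ) • v = (1 : ℕ) • v + (0 : ℕ) • v
    simp
  · change (0 : ℕ) • v = (1 : ℕ) • v + (1 : ℕ) • v
    simp [two v]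

/-- `b` is the transvection `u ↦ u + φ(u) v` -/
def Tv (b : X) (φ : U →+ ZMod 2) (v : U) : Prop := ∀ u : U, b • u = u + (φ u).val • v

theorem Tv.one_zero (φ : U →+ ZMod 2) : Tv (1 : X) φ (0 : U) := by
  intro u
  rw [one_smul, smul_zero, add_zero]

/-- precomposition with the action of `g⁻¹` -/
def tw (g : X) (φ : U →+ ZMod 2) : U →+ ZMod 2 := φ.comp (DistribSMul.toAddMonoidHom U g⁻¹)

theorem tw_apply (g : X) (φ : U →+ ZMod 2) (u : U) : tw g φ u = φ (g⁻¹ • u) := rfl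

theorem smul_nsmul' (g : X) (n : ℕ) (v : U) : g • (n • v) = n • (g • v) :=
  map_nsmul (DistribSMul.toAddMonoidHom U g) n v

theorem Tv.conj {b : X} {φ : U →+ ZMod 2} {v : U} (h : Tv b φ v) (g : X) :
    Tv (g * b * g⁻¹) (tw g φ) (g • v) := by
  intro u
  rw [tw_apply, mul_smul, mul_smul, h, smul_add, smul_inv_smul, smul_nsmul']

theorem Tv.fix {b : X} {φ : U →+ ZMod 2} {v u : U} (h : Tv b φ v) (hu : φ u = 0) : b • u = u := by
  rw [h, hu]
  simp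

theorem Tv.eq_one {b : X} {φ : U →+ ZMod 2} {v u : U} (h : Tv b φ v) (hu : φ u ≠ 0) : b • u = u + v := by
  have h1 : φ u = 1 := by
    generalize φ u = a at hu
    revert a
    decide
  rw [h, h1]
  change u + (1 : ℕ) • v = _
  rw [one_nsmul]

theorem Tv.mul {a b : X} {φ : U →+ ZMod 2} {v w : U} (ha : Tv a φ v) (hb : Tv b φ w) (hw : φ w = 0) :
    Tv (a * b) φ (v + w) := by
  intro u
  rw [mul_smul, hb, smul_add, smul_nsmul', ha.fix hw, ha, smul_add]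
  abel

theorem Tv.mul' (two : ∀ u : U, u + u = 0) {a b : X} {φ ψ : U →+ ZMod 2} {v : U} (ha : Tv a φ v) (hb : Tv b ψ v)
    (hv : φ v = 0) : Tv (a * b) (φ + ψ) v := by
  intro u
  rw [mul_smul, hb, smul_add, smul_nsmul', ha.fix hv, ha, AddMonoidHom.add_apply, sc_add two, add_assoc]

theorem Tv.inv (two : ∀ u : U, u + u = 0) {b : X} {φ : U →+ ZMod 2} {v : U} (h : Tv b φ v) (hv : φ v = 0) :
    Tv b⁻¹ φ v := by
  intro u
  rw [inv_smul_eq_iff, smul_add, smul_nsmul', h.fix hv, h, add_assoc, two, add_zero]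

end basic

/-- the hypotheses of (i) -/
structure TvSit {X : Type u} [Group X] (U : Type v) [AddCommGroup U] [DistribMulAction X U]
    (B Q Qj XJ Y OY : Subgroup X) (W4 Lam : AddSubgroup U) (z : U) (e : X) (φ : U →+ ZMod 2) : Prop where
  two : ∀ u : U, u + u = 0
  /-- `|V_j| = 4` -/
  four : ∀ w ∈ W4, φ w = 0 → w = 0 ∨ w = z
  z0 : z ≠ 0
  zW : z ∈ W4
  ne : ∃ w ∈ W4, φ w ≠ 0
  B2 : IsPGroup 2 B
  QB : Q ≤ B
  QjB : Qj ≤ B
  Qj_of : ∀ b ∈ B, (∀ w ∈ W4, b • w = w) → b ∈ Qj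
  QW : ∀ q ∈ Q, ∀ w ∈ W4, q • w = w
  XQ : XJ ≤ normalizer (Q : Set X)
  XQj : XJ ≤ normalizer (Qj : Set X)
  BQ : B ≤ normalizer (Q : Set X)
  BQj : B ≤ normalizer (Qj : Set X)
  XW : ∀ x ∈ XJ, ∀ w ∈ W4, x • w ∈ W4
  tr : ∀ w ∈ W4, w ≠ 0 → ∃ x ∈ XJ, x • z = w
  Bz : ∀ b ∈ B, b • z = z
  BW : ∀ b ∈ B, ∀ w ∈ W4, b • w = w ∨ b • w = w + z
  /-- the transvection -/
  eB : e ∈ B
  tv : Tv e φ z
  /-- no over-offender of order 4 -/
  hno : ∀ ψ : U →+ ZMod 2, ψ ≠ 0 → ¬ ∀ v ∈ W4, ∃ b ∈ B, Tv b ψ v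
  /-- (i2) -/
  eO : e ∉ OY → ∃ c ∈ Q, ∃ w : U, c • w = w + z
  OB : OY ≤ B
  YO : Y ≤ normalizer (OY : Set X)
  Ymv : ∃ y ∈ Y, y • z ≠ z
  BY : B ≤ Y
  /-- `C_U(B) ≤ ⟨z⟩ Lam` -/
  fixB : ∀ u : U, (∀ b ∈ B, b • u = u) → u ∈ Lam ∨ u + z ∈ Lam
  LamY : ∀ u ∈ Lam, ∀ y ∈ Y, y • u = u
  LamX : ∀ u ∈ Lam, ∀ x ∈ XJ, x • u = u

namespace TvSit

variable {X : Type u} [Group X] {U : Type v} [AddCommGroup U] [DistribMulAction X U]
  {B Q Qj XJ Y OY : Subgroup X} {W4 Lam : AddSubgroup U} {z : U} {e : X} {φ : U →+ ZMod 2}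
  (h : TvSit U B Q Qj XJ Y OY W4 Lam z e φ)
include h

theorem phi_z : φ z = 0 := by
  by_contra h1
  have h2 := h.tv.eq_one h1
  rw [h.Bz e h.eB] at h2
  exact h.z0 (by simpa using h2)

theorem phi_ne {w : U} (hw : w ∈ W4) (h0 : w ≠ 0) (hz : w ≠ z) : φ w ≠ 0 := fun h1 =>
  (h.four w hw h1).elim h0 hz

/-- a conjugate of `e` under `XJ` mapping `v` to `v'` -/
theorem exists_g {v v' : U} (hv : v ∈ W4) (hv' : v' ∈ W4) (h0 : v ≠ 0) (h0' : v' ≠ 0) (hne : v ≠ v') :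
    ∃ x ∈ XJ, (x * e * x⁻¹) • v = v' := by
  have hs : v + v' ∈ W4 := W4.add_mem hv hv'
  have hs0 : v + v' ≠ 0 := fun h1 => hne (by
    have h2 := h.two v'
    rw [← h2] at h1
    exact add_right_cancel h1)
  obtain ⟨x, hx, hxz⟩ := h.tr _ hs hs0
  refine ⟨x, hx, ?_⟩
  have h1 : φ (x⁻¹ • v) ≠ 0 := by
    refine h.phi_ne (h.XW _ (XJ.inv_mem hx) _ hv) (fun h2 => h0 ?_) (fun h2 => h0' ?_)
    · rw [inv_smul_eq_iff, smul_zero] at h2
      exact h2
    · rw [inv_smul_eq_iff, hxz] at h2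
      simpa using h2
  rw [(h.tv.conj x).eq_one (by rwa [tw_apply]), hxz, ← add_assoc, h.two, zero_add]

/-- a functional killing `W4` is `L_E`-invariant -/
theorem tw_g {ψ : U →+ ZMod 2} (hψ : ∀ w ∈ W4, ψ w = 0) {x : X} (hx : x ∈ XJ) : tw (x * e * x⁻¹) ψ = ψ := by
  ext u
  rw [tw_apply]
  have h1 : (x * e * x⁻¹)⁻¹ • u = u + (tw x φ u).val • (x • z) :=
    (h.tv.conj x).inv h.two (by rw [tw_apply, inv_smul_smul]; exact h.phi_z) u
  rw [h1, map_add, map_nsmul, hψ _ (h.XW x hx z h.zW), smul_zero, add_zero]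

/-- from one transvection with axis over `W4` to a fours group -/
theorem all_v {ψ : U →+ ZMod 2} (hψ : ∀ w ∈ W4, ψ w = 0) {N : Subgroup X} (hNB : N ≤ B)
    (hXN : XJ ≤ normalizer (N : Set X)) (hBN : B ≤ normalizer (N : Set X)) {v : U} (hv : v ∈ W4) (h0 : v ≠ 0)
    {τ : X} (hτ : τ ∈ N) (ht : Tv τ ψ v) : ∀ w ∈ W4, ∃ b ∈ B, Tv b ψ w := by
  intro w hw
  by_cases hw0 : w = 0
  · rw [hw0]
    exact ⟨1, B.one_mem, Tv.one_zero ψ⟩
  by_cases hwv : v = w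
  · rw [← hwv]
    exact ⟨τ, hNB hτ, ht⟩
  obtain ⟨x, hx, h1⟩ := h.exists_g hv hw h0 hw0 hwv
  have h2 := ht.conj (x * e * x⁻¹)
  rw [h1, h.tw_g hψ hx] at h2
  have hg : x * e * x⁻¹ ∈ normalizer (N : Set X) :=
    mul_mem (mul_mem (hXN hx) (hBN h.eB)) (inv_mem (hXN hx))
  exact ⟨_, hNB ((mem_normalizer_iff.1 hg τ).1 hτ), h2⟩

/-- (i1) -/
theorem phi_c {c : X} (hc : c ∈ Q) (u : U) : φ (c • u) = φ u := by
  by_contra hne
  set ψ : U →+ ZMod 2 := tw c⁻¹ φ + φ with hψ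
  have hψu : ∀ u, ψ u = φ (c • u) + φ u := by
    intro u
    rw [hψ, AddMonoidHom.add_apply, tw_apply, inv_inv]
  have h1 : ψ ≠ 0 := by
    intro h2
    have h3 : ψ u = 0 := by rw [h2]; rfl
    rw [hψu] at h3
    exact hne ((CharTwo.add_eq_zero).1 h3)
  have h2 : ∀ w ∈ W4, ψ w = 0 := by
    intro w hw
    rw [hψu, h.QW c hc w hw]
    exact CharTwo.add_self_eq_zero _
  have h3 : Tv (c⁻¹ * e * c⁻¹⁻¹) (tw c⁻¹ φ) z := by
    have h4 := h.tv.conj c⁻¹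
    rwa [h.Bz _ (h.QB (Q.inv_mem hc))] at h4
  have h5 : Tv e⁻¹ φ z := h.tv.inv h.two h.phi_z
  have h6 : Tv (c⁻¹ * e * c⁻¹⁻¹ * e⁻¹) ψ z := by
    refine h3.mul' h.two h5 ?_
    rw [tw_apply, inv_inv, h.Bz _ (h.QB hc)]
    exact h.phi_z
  have h7 : c⁻¹ * e * c⁻¹⁻¹ * e⁻¹ ∈ Q := by
    have e1 : c⁻¹ * e * c⁻¹⁻¹ * e⁻¹ = c⁻¹ * (e * c * e⁻¹) := by group
    rw [e1]
    exact mul_mem (inv_mem hc) ((mem_normalizer_iff.1 (h.BQ h.eB) c).1 hc)
  exact h.hno ψ h1 (h.all_v h2 h.QB h.XQ h.BQ h.zW h.z0 h7 h6)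

/-- `C_U(L_E)` -/
def FE (XJ : Subgroup X) (e : X) (U : Type v) [AddCommGroup U] [DistribMulAction X U] : AddSubgroup U where
  carrier := {u | ∀ x ∈ XJ, (x * e * x⁻¹) • u = u}
  zero_mem' := fun _ _ => smul_zero _
  add_mem' := fun {a b} ha hb x hx => by rw [smul_add, ha x hx, hb x hx]
  neg_mem' := fun {a} ha x hx => by rw [smul_neg, ha x hx]

omit h in
theorem mem_FE {u : U} : u ∈ FE XJ e U ↔ ∀ x ∈ XJ, (x * e * x⁻¹) • u = u := Iff.rfl

/-- `[U, Q] ≤ C_U(L_E)` -/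
theorem comm_mem {c : X} (hc : c ∈ Q) (u : U) : c • u + u ∈ FE XJ e U := by
  rw [mem_FE]
  intro x hx
  refine (h.tv.conj x).fix ?_
  rw [tw_apply, smul_add, map_add]
  have h1 : x⁻¹ * c * x ∈ Q := by
    have h2 := (mem_normalizer_iff.1 (h.XQ (XJ.inv_mem hx)) c).1 hc
    rwa [inv_inv] at h2
  have h2 : x⁻¹ • c • u = (x⁻¹ * c * x) • (x⁻¹ • u) := by
    rw [← mul_smul, ← mul_smul]
    congr 1
    group
  rw [h2, h.phi_c h1]
  exact CharTwo.add_self_eq_zero _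

theorem z_notMem : z ∉ FE XJ e U := by
  intro h1
  obtain ⟨w, hw, hw1⟩ := h.ne
  have hw0 : w ≠ 0 := fun h2 => hw1 (by rw [h2, map_zero])
  have hwz : z ≠ w := fun h2 => hw1 (by rw [← h2]; exact h.phi_z)
  obtain ⟨x, hx, h2⟩ := h.exists_g h.zW hw h.z0 hw0 hwz
  exact hwz ((h1 x hx).symm.trans h2)

/-- (i2) -/
theorem e_mem : e ∈ OY := by
  by_contra h1
  obtain ⟨c, hc, w, hw⟩ := h.eO h1
  have h2 := h.comm_mem hc w
  rw [hw] at h2
  have e1 : w + z + w = z := by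
    rw [add_right_comm, h.two, zero_add]
  rw [e1] at h2
  exact h.z_notMem h2

/-- (i3) -/
theorem centre {y : X} (hy : y ∈ Y) : y • z = z ∨ y • z ∈ FE XJ e U := by
  have he : y * e * y⁻¹ ∈ OY := (mem_normalizer_iff.1 (h.YO hy) e).1 h.e_mem
  have heB := h.OB he
  have ht : Tv (y * e * y⁻¹) (tw y φ) (y • z) := h.tv.conj y
  have hz0 : y • z ≠ 0 := fun h1 => h.z0 ((smul_eq_zero_iff_eq y).1 h1)
  by_cases hm : ∀ w ∈ W4, tw y φ w = 0
  · right
    rw [mem_FE]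
    by_contra hcon
    push Not at hcon
    obtain ⟨x, hx, hxn⟩ := hcon
    set g := x * e * x⁻¹ with hg
    have hxz : x • z ∈ W4 := h.XW x hx z h.zW
    have hgz : g • (y • z) = y • z + x • z :=
      (h.tv.conj x).eq_one fun h1 => hxn ((h.tv.conj x).fix h1)
    -- `e'` and `e'^g`
    have h1 := ht.conj g
    rw [hgz, h.tw_g hm hx] at h1
    have heq : y * e * y⁻¹ ∈ Qj := h.Qj_of _ heB fun w hw => ht.fix (hm w hw)
    have hgN : g ∈ normalizer (Qj : Set X) :=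
      mul_mem (mul_mem (h.XQj hx) (h.BQj h.eB)) (inv_mem (h.XQj hx))
    have heq' := (mem_normalizer_iff.1 hgN _).1 heq
    have hzz : tw y φ (y • z) = 0 := by
      rw [tw_apply, inv_smul_smul]
      exact h.phi_z
    have h2 := ht.mul h1 (by rw [map_add, hzz, hm _ hxz, add_zero])
    rw [← add_assoc, h.two, zero_add] at h2
    refine h.hno (tw y φ) ?_ (h.all_v hm h.QjB h.XQj h.BQj hxz ?_ (mul_mem heq heq') h2)
    · intro h3
      obtain ⟨w, hw, hw1⟩ := h.ne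
      apply hw1
      have h4 : tw y φ (y • w) = 0 := by rw [h3]; rfl
      rwa [tw_apply, inv_smul_smul] at h4
    · exact fun h3 => h.z0 ((smul_eq_zero_iff_eq x).1 h3)
  · left
    push Not at hm
    obtain ⟨w, hw, hw1⟩ := hm
    have h1 := ht.eq_one hw1
    rcases h.BW _ heB w hw with h2 | h2
    · rw [h1] at h2
      exact absurd (by simpa using h2) hz0
    · rw [h1] at h2
      exact add_left_cancel h2

theorem Lam_FE {u : U} (hu : u ∈ Lam) : u ∈ FE XJ e U := by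
  rw [mem_FE]
  intro x hx
  rw [mul_smul, mul_smul, h.LamX u hu _ (XJ.inv_mem hx), h.LamY u hu e (h.BY h.eB), h.LamX u hu x hx]

/-- **(i)** -/
theorem false [Finite U] [Finite X] : False := by
  classical
  -- the orbit of `z`
  set Δ : Set U := {δ | ∃ y ∈ Y, y • z = δ} with hΔ
  have hΔF : Δ \ {z} ⊆ (FE XJ e U : Set U) := by
    rintro _ ⟨⟨y, hy, rfl⟩, h1⟩
    exact (h.centre hy).resolve_left h1
  have hYΔ : ∀ y ∈ Y, ∀ δ ∈ Δ, y • δ ∈ Δ := by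
    rintro y hy _ ⟨y', hy', rfl⟩
    exact ⟨y * y', mul_mem hy hy', mul_smul _ _ _⟩
  -- the span of `Δ - {z}` and a `B`-fixed vector
  set S : AddSubgroup U := AddSubgroup.closure (Δ \ {z}) with hS
  have hSF : S ≤ FE XJ e U := (AddSubgroup.closure_le _).2 hΔF
  have hBS : ∀ b ∈ B, ∀ s ∈ S, b • s ∈ S := by
    intro b hb s hs
    have h1 : S ≤ S.comap (DistribSMul.toAddMonoidHom U b) := by
      rw [hS, AddSubgroup.closure_le]
      rintro δ ⟨hδ, hδz⟩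
      refine AddSubgroup.subset_closure ⟨hYΔ b (h.BY hb) δ hδ, fun h2 => hδz ?_⟩
      have h3 : b • δ = z := h2
      have h4 := h.Bz _ (B.inv_mem hb)
      rw [← h3, inv_smul_smul] at h4
      rw [Set.mem_singleton_iff, h4, h3]
    exact h1 hs
  obtain ⟨y₀, hy₀, hy₀z⟩ := h.Ymv
  have hS0 : ∃ s : S, s ≠ 0 := by
    refine ⟨⟨y₀ • z, AddSubgroup.subset_closure ⟨⟨y₀, hy₀, rfl⟩, hy₀z⟩⟩, fun h1 => ?_⟩
    exact h.z0 ((smul_eq_zero_iff_eq y₀).1 (congrArg Subtype.val h1))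
  obtain ⟨μ, hμS, hμ0, hμB⟩ : ∃ μ ∈ S, μ ≠ 0 ∧ ∀ b ∈ B, b • μ = μ := by
    let act : MulAction B S :=
      { smul := fun b s => ⟨(b : X) • (s : U), hBS b b.2 s s.2⟩
        one_smul := fun s => Subtype.ext (one_smul X (s : U))
        mul_smul := fun a b s => Subtype.ext (mul_smul (a : X) (b : X) (s : U)) }
    have : Finite S := Subtype.finite
    have h2 : 2 ∣ Nat.card S := by
      obtain ⟨s, hs⟩ := hS0
      have h3 : addOrderOf s = 2 := by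
        refine addOrderOf_eq_prime ?_ hs
        rw [two_nsmul]
        exact Subtype.ext (h.two s)
      rw [← h3]
      exact addOrderOf_dvd_natCard s
    have h0 : (0 : S) ∈ MulAction.fixedPoints B S := fun b => Subtype.ext (smul_zero (b : X))
    obtain ⟨s, hs, hs0⟩ := h.B2.exists_fixed_point_of_prime_dvd_card_of_fixed_point S h2 h0
    exact ⟨s, s.2, fun h4 => hs0 (Subtype.ext h4).symm, fun b hb => congrArg Subtype.val (hs ⟨b, hb⟩)⟩
  -- it is fixed by `Y`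
  have hμY : ∀ y ∈ Y, y • μ = μ := by
    have h1 : μ ∈ Lam := by
      rcases h.fixB μ hμB with h1 | h1
      · exact h1
      · exfalso
        apply h.z_notMem
        have h2 := (FE XJ e U).add_mem (h.Lam_FE h1) (hSF hμS)
        have e1 : μ + z + μ = z := by rw [add_right_comm, h.two, zero_add]
        rwa [e1] at h2
    exact h.LamY μ h1
  -- minimal subset
  have hfin : (Δ \ {z}).Finite := Set.toFinite _
  obtain ⟨D, ⟨hDΔ, hμD⟩, hDmin⟩ : ∃ D : Set U, (D ⊆ Δ \ {z} ∧ μ ∈ AddSubgroup.closure D) ∧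
      ∀ D' : Set U, D' ⊆ Δ \ {z} ∧ μ ∈ AddSubgroup.closure D' → D.ncard ≤ D'.ncard := by
    obtain ⟨D, hD, hm⟩ := WellFounded.has_min (measure (fun D : Set U => D.ncard)).wf
      {D | D ⊆ Δ \ {z} ∧ μ ∈ AddSubgroup.closure D} ⟨Δ \ {z}, subset_rfl, hμS⟩
    exact ⟨D, hD, fun D' hD' => not_lt.1 (hm D' hD')⟩
  have hDne : D.Nonempty := by
    by_contra h1
    rw [Set.not_nonempty_iff_eq_empty] at h1
    rw [h1, AddSubgroup.closure_empty, AddSubgroup.mem_bot] at hμD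
    exact hμ0 hμD
  obtain ⟨δ, hδ⟩ := hDne
  have hDδ : insert δ (D \ {δ}) = D := Set.insert_sdiff_self_of_mem hδ |>.trans rfl
  have hlt : (D \ {δ}).ncard < D.ncard := Set.ncard_sdiff_singleton_lt_of_mem hδ (Set.toFinite _)
  have hnot : μ ∉ AddSubgroup.closure (D \ {δ}) := fun h1 =>
    absurd (hDmin _ ⟨Set.sdiff_subset.trans hDΔ, h1⟩) (not_le.2 hlt)
  rw [← hDδ, Set.insert_eq, AddSubgroup.closure_union, AddSubgroup.mem_sup] at hμD
  obtain ⟨a, ha, s, hs, has⟩ := hμD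
  have ha' : a = δ := by
    rw [AddSubgroup.mem_closure_singleton] at ha
    obtain ⟨n, hn⟩ := ha
    rcases Int.even_or_odd' n with ⟨k, hk | hk⟩
    · exfalso
      apply hnot
      have h1 : a = 0 := by
        rw [← hn, hk, mul_comm, mul_zsmul, two_zsmul, h.two, smul_zero]
      rw [← has, h1, zero_add]
      exact hs
    · rw [← hn, hk, add_zsmul, mul_comm, mul_zsmul, two_zsmul, h.two, smul_zero, zero_add, one_zsmul]
  rw [ha'] at has
  obtain ⟨⟨y, hy, hyδ⟩, -⟩ := hDΔ hδ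
  -- apply `y⁻¹`
  have h1 : μ = z + y⁻¹ • s := by
    have h2 := hμY _ (Y.inv_mem hy)
    rw [← has, smul_add, ← hyδ, inv_smul_smul, hyδ, has] at h2
    exact h2.symm
  have h2 : y⁻¹ • s ∈ FE XJ e U := by
    have h3 : AddSubgroup.closure (D \ {δ}) ≤ (FE XJ e U).comap (DistribSMul.toAddMonoidHom U y⁻¹) := by
      rw [AddSubgroup.closure_le]
      rintro δ' ⟨hδ', hne⟩
      refine hΔF ⟨hYΔ _ (Y.inv_mem hy) _ (hDΔ hδ').1, fun h4 => hne ?_⟩
      have h5 : y⁻¹ • δ' = z := h4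
      rw [inv_smul_eq_iff] at h5
      rw [Set.mem_singleton_iff, h5, hyδ]
    exact h3 hs
  apply h.z_notMem
  have h3 := (FE XJ e U).sub_mem (hSF hμS) h2
  rwa [h1, add_sub_cancel_right] at h3

end TvSit

end Cfsg.Agent.Omega.NO3S.WYE
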